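import Groth.Agent.QC70.Closure
import Mathlib.AlgebraicGeometry.Morphisms.QuasiSeparated

/-! The qcqs lemma for quasi-coherent modules, and quasi-coherence of direct images. -/

set_option autoImplicit false
set_option backward.isDefEq.respectTransparency.types false

noncomputable section

universe u

open CategoryTheory Limits AlgebraicGeometry TopologicalSpace Opposite
open Groth.Agent.QC70

namespace Groth.Agent.QCqs72

variable {X : Scheme.{u}} (M : X.Modules)

/-- A section over a compact open vanishing on `D(f)` is killed by a power of `f`. -/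
theorem eq_zero_of_isCompact [M.IsQuasicoherent] {U : X.Opens} (hU : IsCompact (U : Set X))
    (f : Γ(X, U)) (t : Γ(M, U)) (ht : res M (X.basicOpen_le f) t = 0) :
    ∃ n : ℕ, f ^ n • t = 0 := by
  obtain ⟨s, hs, e⟩ := isCompact_and_isOpen_iff_finite_and_eq_biUnion_affineOpens.mp ⟨hU, U.2⟩
  replace e : U = iSup fun i : s => (i : X.Opens) := by ext1; simpa using e
  have hle : ∀ i : s, i.1.1 ≤ U := fun i => by
    rw [e]; exact le_iSup (fun i : s => (i : X.Opens)) i
  have := hs.to_subtype
  cases nonempty_fintype s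
  have hex : ∀ i : s, ∃ n : ℕ, resO X (hle i) f ^ n • res M (hle i) t = 0 := by
    intro i
    have hb : X.basicOpen (resO X (hle i) f) ≤ X.basicOpen f := by
      rw [Scheme.basicOpen_res]; exact inf_le_right
    refine (isLocAt_of_isQuasicoherent M i.1.2).eq_zero_of _ _ ?_
    rw [res_res, ← res_res (X.basicOpen_le f) hb, ht, res_zero]
  choose n hn using hex
  let N := Finset.univ.sup n
  refine ⟨N, section_ext' M (fun i : s => (i : X.Opens)) hle e.le _ _ fun i => ?_⟩
  have hN : N - n i + n i = N :=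
    Nat.sub_add_cancel (Finset.le_sup (f := n) (Finset.mem_univ i))
  rw [res_pow_smul, res_zero, ← hN, pow_smul_add, hn, smul_zero]

/-- A section over `D(f) ⊆ U` extends to `U` after multiplying by a power of `f`, when `U` is
compact and has compact intersections of affine opens. -/
theorem exists_of_isQuasiSeparated [M.IsQuasicoherent] {U : X.Opens} (hU : IsCompact (U : Set X))
    (hU' : IsQuasiSeparated (U : Set X)) (f : Γ(X, U)) (x : Γ(M, X.basicOpen f)) :
    ∃ (n : ℕ) (t : Γ(M, U)),
      res M (X.basicOpen_le f) t = resO X (X.basicOpen_le f) f ^ n • x := by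
  obtain ⟨s, hs, e⟩ := isCompact_and_isOpen_iff_finite_and_eq_biUnion_affineOpens.mp ⟨hU, U.2⟩
  replace e : U = iSup fun i : s => (i : X.Opens) := by ext1; simpa using e
  have hle : ∀ i : s, i.1.1 ≤ U := fun i => by
    rw [e]; exact le_iSup (fun i : s => (i : X.Opens)) i
  have := hs.to_subtype
  cases nonempty_fintype s
  let V : s → X.Opens := fun i => (i : X.Opens)
  let fj : ∀ i : s, Γ(X, V i) := fun i => resO X (hle i) f
  have hW : ∀ i, X.basicOpen (fj i) ≤ X.basicOpen f := fun i => by
    simp only [fj, Scheme.basicOpen_res]; exact inf_le_right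
  have hex : ∀ i : s, ∃ (n : ℕ) (t : Γ(M, V i)),
      res M (X.basicOpen_le (fj i)) t = resO X (X.basicOpen_le (fj i)) (fj i) ^ n • res M (hW i) x :=
    fun i => (isLocAt_of_isQuasicoherent M i.1.2).exists_of (fj i) _
  choose n t ht using hex
  let N := Finset.univ.sup n
  let z : ∀ i, Γ(M, V i) := fun i => fj i ^ (N - n i) • t i
  have hz : ∀ i, res M (X.basicOpen_le (fj i)) (z i) =
      resO X (X.basicOpen_le (fj i)) (fj i) ^ N • res M (hW i) x := fun i => by
    simp only [z]
    rw [res_pow_smul, ht, ← pow_smul_add,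
      Nat.sub_add_cancel (Finset.le_sup (f := n) (Finset.mem_univ i))]
  have hov : ∀ i j : s, ∃ m : ℕ,
      resO X ((inf_le_left : V i ⊓ V j ≤ V i).trans (hle i)) f ^ m •
        (res M (inf_le_left : V i ⊓ V j ≤ V i) (z i) -
          res M (inf_le_right : V i ⊓ V j ≤ V j) (z j)) = 0 := by
    intro i j
    let O := V i ⊓ V j
    let fO := resO X ((inf_le_left : O ≤ V i).trans (hle i)) f
    have hO : IsCompact (O : Set X) :=
      hU' _ _ (SetLike.coe_subset_coe.mpr (hle i)) (V i).2 i.1.2.isCompact
        (SetLike.coe_subset_coe.mpr (hle j)) (V j).2 j.1.2.isCompact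
    refine eq_zero_of_isCompact M hO fO _ ?_
    have hi : X.basicOpen fO ≤ X.basicOpen (fj i) := by
      simp only [fO, fj, Scheme.basicOpen_res]; exact inf_le_inf_right _ inf_le_left
    have hj : X.basicOpen fO ≤ X.basicOpen (fj j) := by
      simp only [fO, fj, Scheme.basicOpen_res]; exact inf_le_inf_right _ inf_le_right
    rw [res_sub, sub_eq_zero, res_res, res_res, ← res_res (X.basicOpen_le (fj i)) hi,
      ← res_res (X.basicOpen_le (fj j)) hj, hz, hz, res_smul, res_smul, res_res, res_res]
    simp only [resO, map_pow, fj, ← X.presheaf.map_comp_apply, ← op_comp, homOfLE_comp]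
  choose m hm using hov
  let K := Finset.univ.sup fun q : s × s => m q.1 q.2
  obtain ⟨T, hT⟩ := exists_glue M V hle e.le (fun i => fj i ^ K • z i) (fun i j => by
    have hle' : m i j ≤ K :=
      Finset.le_sup (f := fun q : s × s => m q.1 q.2) (Finset.mem_univ (i, j))
    have := congrArg
      (resO X ((inf_le_left : V i ⊓ V j ≤ V i).trans (hle i)) f ^ (K - m i j) • ·) (hm i j)
    simp only [smul_zero, ← pow_smul_add, Nat.sub_add_cancel hle', smul_sub, sub_eq_zero] at this
    rw [res_pow_smul (inf_le_left : V i ⊓ V j ≤ V i) (fj i) K (z i),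
      res_pow_smul (inf_le_right : V i ⊓ V j ≤ V j) (fj j) K (z j)]
    simpa only [resO, map_pow, fj, ← X.presheaf.map_comp_apply, ← op_comp, homOfLE_comp] using this)
  refine ⟨K + N, T, section_ext' M (fun i => X.basicOpen (fj i)) hW ?_ _ _ fun i => ?_⟩
  · intro p hp
    obtain ⟨i, hi⟩ := Opens.mem_iSup.mp (e.le (X.basicOpen_le f hp))
    refine Opens.mem_iSup.mpr ⟨i, ?_⟩
    simp only [fj, Scheme.basicOpen_res]
    exact ⟨hi, hp⟩
  · rw [res_res, ← res_res (hle i) (X.basicOpen_le (fj i)), hT, res_pow_smul, hz, ← pow_smul_add,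
      res_smul]
    simp only [resO, map_pow, fj, ← X.presheaf.map_comp_apply, ← op_comp, homOfLE_comp]

theorem isLocAt_of_qcqs [M.IsQuasicoherent] {U : X.Opens} (hU : IsCompact (U : Set X))
    (hU' : IsQuasiSeparated (U : Set X)) : IsLocAt M U :=
  ⟨exists_of_isQuasiSeparated M hU hU', eq_zero_of_isCompact M hU⟩

theorem pushforward_smul {Y : Scheme.{u}} (g : X ⟶ Y) {U : Y.Opens} (r : Γ(Y, U))
    (x : Γ((Scheme.Modules.pushforward g).obj M, U)) :
    r • x = ((g.app U r) • (show Γ(M, g ⁻¹ᵁ U) from x) : Γ(M, g ⁻¹ᵁ U)) := rfl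

theorem app_resO {Y : Scheme.{u}} (g : X ⟶ Y) {U V : Y.Opens} (h : V ≤ U) (a : Γ(Y, U)) :
    g.app V (resO Y h a) = resO X (g.preimage_mono h) (g.app U a) :=
  congr($(g.naturality (homOfLE h).op) a)

theorem pushforward_res {Y : Scheme.{u}} (g : X ⟶ Y) {U V : Y.Opens} (h : V ≤ U)
    (x : Γ((Scheme.Modules.pushforward g).obj M, U)) :
    res ((Scheme.Modules.pushforward g).obj M) h x =
      res M (g.preimage_mono h) (show Γ(M, g ⁻¹ᵁ U) from x) := rfl

theorem isLocAt_pushforward {Y : Scheme.{u}} (g : X ⟶ Y) {U : Y.Opens}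
    (h : IsLocAt M (g ⁻¹ᵁ U)) : IsLocAt ((Scheme.Modules.pushforward g).obj M) U where
  exists_of f s := by
    have he : X.basicOpen (g.app U f) = g ⁻¹ᵁ Y.basicOpen f := (Scheme.preimage_basicOpen g f).symm
    obtain ⟨n, t, ht⟩ := h.exists_of (g.app U f) (res M he.le s)
    refine ⟨n, t, ?_⟩
    have h1 := congrArg (res M he.ge) ht
    rw [res_res, res_pow_smul, res_res, res_self, resO_resO] at h1
    rw [pushforward_res, pushforward_smul, map_pow, app_resO]
    exact h1
  eq_zero_of f t ht := by
    have he : X.basicOpen (g.app U f) = g ⁻¹ᵁ Y.basicOpen f := (Scheme.preimage_basicOpen g f).symm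
    rw [pushforward_res] at ht
    obtain ⟨n, hn⟩ := h.eq_zero_of (g.app U f) t (by
      have h1 : res M he.le (res M (g.preimage_mono (Y.basicOpen_le f)) t) =
          res M he.le (0 : Γ(M, g ⁻¹ᵁ Y.basicOpen f)) := congrArg _ ht
      rwa [res_res, res_zero] at h1)
    exact ⟨n, by rw [pushforward_smul, map_pow]; exact hn⟩

theorem isQuasicoherent_pushforward {Y : Scheme.{u}} (g : X ⟶ Y) [QuasiCompact g]
    [QuasiSeparated g] [M.IsQuasicoherent] :
    ((Scheme.Modules.pushforward g).obj M).IsQuasicoherent :=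
  isQuasicoherent_of_forall_isLocAt _ fun U hU => isLocAt_pushforward M g
    (isLocAt_of_qcqs M (g.isCompact_preimage hU.isCompact)
      (g.isQuasiSeparated_preimage hU.isQuasiSeparated))

end Groth.Agent.QCqs72
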